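import Groth.Agent.RelVA16.TwistMul
import Groth.Agent.RelTildeX.ExistsTwist
import Groth.Agent.RelTildeX.Invertible
import Groth.Agent.GrTwistX.Ample
import Groth.Agent.AmpleX.RelAffine
import Groth.Agent.AmpleX.CounitEpi
import Groth.Agent.RelVA16.GenTwist

/-!
# `O(1)` of a relative `Proj` generated in degree one is relatively ample; classes of the twists
-/

set_option autoImplicit false
set_option backward.isDefEq.respectTransparency false
set_option backward.isDefEq.respectTransparency.types false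
set_option linter.style.haveILetI false

universe u

open CategoryTheory CategoryTheory.Limits AlgebraicGeometry TopologicalSpace Opposite
open scoped HomogeneousIdeal

noncomputable section

namespace Groth.Agent.RelProjAmple16

open Groth.Agent Groth.Agent.RelTildeX
open Groth.Agent.H23.PicMul

variable {Y P : Scheme.{u}} {𝒮 : RelProj.QCGrAlg Y} {p : P ⟶ Y}
  {chart : ∀ (U : Y.Opens) (hU : IsAffineOpen U), (((p ⁻¹ᵁ U : P.Opens) : Scheme.{u}) ≅ Proj (𝒮.deg U hU))}

/-- Finitely many degree one elements cover each chart. -/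
theorem exists_deg_one_cover (hgen : 𝒮.IsGenDegOne) (hft : 𝒮.IsFTDeg 1) (U : Y.Opens) (hU : IsAffineOpen U) :
    ∃ T : Finset (𝒮.presheaf.obj (op U)), (∀ t ∈ T, t ∈ 𝒮.deg U hU 1) ∧
      ∀ y : ProjectiveSpectrum (𝒮.deg U hU), ∃ t ∈ T, t ∉ y.asHomogeneousIdeal := by
  obtain ⟨T, hT, hgenT⟩ := hft U hU
  refine ⟨T, fun t ht => hT ht, fun y => ?_⟩
  by_contra! hall
  refine y.not_irrelevant_le (show ((𝒮.deg U hU)₊).toIdeal ≤ _ from ?_)
  rw [irrelevant_eq_span_deg_one hgen U hU, Ideal.span_le]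
  intro x hx
  obtain ⟨c, rfl⟩ := hgenT x hx
  exact Ideal.sum_mem _ fun t ht => Ideal.mul_mem_left _ _ (hall t ht)

theorem quasiCompact (hgen : 𝒮.IsGenDegOne) (hft : 𝒮.IsFTDeg 1)
    (chart : ∀ (U : Y.Opens) (hU : IsAffineOpen U), (((p ⁻¹ᵁ U : P.Opens) : Scheme.{u}) ≅ Proj (𝒮.deg U hU))) :
    QuasiCompact p := by
  refine quasiCompact_iff_forall_isAffineOpen.2 fun U hU => ?_
  obtain ⟨T, hT, hcov⟩ := exists_deg_one_cover hgen hft U hU
  haveI : CompactSpace (Proj (𝒮.deg U hU)) := ⟨by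
    have : (Set.univ : Set (Proj (𝒮.deg U hU))) = ⋃ t : T,
        (Proj.basicOpen (𝒮.deg U hU) t.1 : Set (Proj (𝒮.deg U hU))) :=
      (Set.eq_univ_of_forall fun y => by
        obtain ⟨t, ht, hty⟩ := hcov y
        exact Set.mem_iUnion.2 ⟨⟨t, ht⟩, hty⟩).symm
    rw [this]
    exact isCompact_iUnion fun t => (Proj.isAffineOpen_basicOpen _ _ (hT _ t.2) one_pos).isCompact⟩
  rw [← opensRange_emb p chart U hU, Scheme.Hom.coe_opensRange]
  exact isCompact_range (RelProj.emb p chart U hU).continuous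

/-- `O(1)` is relatively ample. -/
theorem isRelAmple_twistOne (hgen : 𝒮.IsGenDegOne) (hft : 𝒮.IsFTDeg 1) {L : P.Modules}
    {lam : ∀ (U : Y.Opens) (hU : IsAffineOpen U),
      L ⟶ (Scheme.Modules.pushforward (RelProj.emb p chart U hU)).obj (GrTwist.twist (𝒮.deg U hU) 1)}
    (hL : RelProj.IsRelTwist 𝒮 p chart 1 L lam) : RelAmple.IsRelAmple p L := by
  haveI := quasiCompact hgen hft chart
  refine AmpleX.isRelAmple_of_ampleOn fun x => ?_
  obtain ⟨_, ⟨U, hU, rfl⟩, hxU, -⟩ := Y.isBasis_affineOpens.exists_subset_of_mem_open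
    (Set.mem_univ (p x)) isOpen_univ
  obtain ⟨T, hT, hcov⟩ := exists_deg_one_cover hgen hft U hU
  exact ⟨U, _, RelProj.emb p chart U hU, inferInstance, hxU, (opensRange_emb p chart U hU).ge,
    AmpleX.isAmple_of_iso (twistIso hL U hU).symm (GrTwistX.isAmple_twist one_pos T hT hcov)⟩

section Classes

variable (hP : RelProj.IsRelProj 𝒮 p chart) (hgen : 𝒮.IsGenDegOne)

variable (chart) in
/-- `c` is the class of a twisting sheaf `O(n)`. -/
def IsTw (n : ℤ) (c : PicF.Cl P) : Prop :=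
  ∃ (L : P.Modules) (lam : ∀ (U : Y.Opens) (hU : IsAffineOpen U),
    L ⟶ (Scheme.Modules.pushforward (RelProj.emb p chart U hU)).obj (GrTwist.twist (𝒮.deg U hU) n)),
    RelProj.IsRelTwist 𝒮 p chart n L lam ∧ c = PicF.cl L

include hP hgen

theorem isTw_mul {m n : ℤ} {c c' c'' : PicF.Cl P} (h : IsTw chart m c) (h' : IsTw chart n c')
    (h'' : IsTw chart (m + n) c'') : c * c' = c'' := by
  obtain ⟨L, lam, hL, rfl⟩ := h
  obtain ⟨L', lam', hL', rfl⟩ := h'
  obtain ⟨L'', lam'', hL'', rfl⟩ := h''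
  rw [← cl_tensor]
  exact cl_eq_iff.2 (RelVA16.nonempty_tensor_twist_iso hP hgen hL hL' hL'')

theorem exists_isTw (n : ℤ) : ∃ c, IsTw chart n c := by
  obtain ⟨L, lam, hL⟩ := RelTildeX.Exists.exists_isRelTwist 𝒮 p chart hP n
  exact ⟨_, L, lam, hL, rfl⟩

theorem isTw_zero {c : PicF.Cl P} (h : IsTw chart 0 c) : c = 1 := by
  have h2 : c * c = c := isTw_mul hP hgen h h (by simpa using h)
  obtain ⟨L, lam, hL, rfl⟩ := h
  exact (IsUnit.mul_left_cancel (isUnit_cl (RelTildeX.isInvertible_twist hgen hL))) (h2.trans (mul_one _).symm)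

theorem isTw_natCast {c₁ : PicF.Cl P} (h₁ : IsTw chart 1 c₁) :
    ∀ (n : ℕ) (c : PicF.Cl P), IsTw chart (n : ℤ) c → c = c₁ ^ n
  | 0, c, h => by rw [pow_zero]; exact isTw_zero hP hgen h
  | n + 1, c, h => by
    obtain ⟨c', h'⟩ := exists_isTw hP hgen (n : ℤ)
    rw [pow_succ, ← isTw_natCast h₁ n c' h']
    exact (isTw_mul hP hgen h' h₁ (by push_cast at h; exact h)).symm

theorem isTw_neg_mul {n : ℤ} {c c' : PicF.Cl P} (h : IsTw chart n c) (h' : IsTw chart (-n) c') :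
    c * c' = 1 := by
  obtain ⟨c₀, h₀⟩ := exists_isTw hP hgen (0 : ℤ)
  rw [isTw_mul hP hgen h h' (by rwa [add_neg_cancel] : IsTw chart (n + -n) c₀)]
  exact isTw_zero hP hgen h₀

end Classes

/-- For a relatively ample module the counit is eventually epimorphic on twists, the source being compact. -/
theorem eventually_epi_counit {X Y : Scheme.{u}} [CompactSpace X] (f : X ⟶ Y) {L : X.Modules}
    (hL : RelAmple.IsRelAmple f L) {F : X.Modules} (hq : Coh.IsQCoh F) (hft : CohB1.IsFT F) :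
    ∃ n₀ : ℕ, ∀ n, n₀ ≤ n →
      Epi ((Scheme.Modules.pullbackPushforwardAdjunction f).counit.app
        (CohB1.tensorMod F (CohB1.tensorPow L n))) := by
  classical
  haveI := hL.1
  choose V hV hxV _ using fun x : X => exists_isAffineOpen_mem_and_subset (x := f x) (U := ⊤) trivial
  obtain ⟨S, hS⟩ := isCompact_univ.elim_finite_subcover (fun x => ((f ⁻¹ᵁ V x : X.Opens) : Set X))
    (fun x => (f ⁻¹ᵁ V x).2) (fun x _ => Set.mem_iUnion.2 ⟨x, hxV x⟩)
  have hev : ∀ x : X, ∃ n₀ : ℕ, ∀ n, n₀ ≤ n →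
      Curv2.IsGloballyGenerated ((CohB1.tensorMod F (CohB1.tensorPow L n)).restrict (f ⁻¹ᵁ V x).ι) := by
    intro x
    have ha := hL.2 ⟨V x, hV x⟩
    haveI : CompactSpace (f ⁻¹ᵁ V x : X.Opens).toScheme :=
      isCompact_iff_compactSpace.mp (f.isCompact_preimage (hV x).isCompact)
    haveI : (f ⁻¹ᵁ V x : X.Opens).toScheme.IsSeparated := AmpleX.isSeparated_of_isAmple ha
    obtain ⟨n₀, h⟩ := AmpleX.eventually_isGloballyGenerated ha (F := F.restrict (f ⁻¹ᵁ V x).ι)
      (QCoh.isQCoh_restrict _ hq) (AmpleX.isFT_restrict' _ hq hft)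
    refine ⟨n₀, fun n hn => ?_⟩
    obtain ⟨e⟩ := cl_eq_iff.1 (show PicF.cl (CohB1.tensorMod (F.restrict (f ⁻¹ᵁ V x).ι)
        (CohB1.tensorPow (L.restrict (f ⁻¹ᵁ V x).ι) n)) =
      PicF.cl ((CohB1.tensorMod F (CohB1.tensorPow L n)).restrict (f ⁻¹ᵁ V x).ι) by
        rw [cl_tensor, AmpleX.cl_restrict, cl_tensorPow, AmpleX.cl_restrict, AmpleX.cl_restrict, cl_tensor, cl_tensorPow,
          pullCl_mul, pullCl_pow])
    exact AmpleX.isGloballyGenerated_of_iso e (h n hn)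
  choose N hN using hev
  refine ⟨S.sup N, fun n hn => AmpleX.epi_counit_of_generated f _ fun x => ?_⟩
  obtain ⟨y, hy, hxy⟩ := Set.mem_iUnion₂.1 (hS (Set.mem_univ x))
  exact ⟨V y, hxy, hN y n (le_trans (Finset.le_sup hy) hn)⟩

end Groth.Agent.RelProjAmple16
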